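import Groth.Agent.Lib.HorizDiv17.Gauss
import Groth.Agent.Lib.CurveRR.Places
import Groth.Agent.Lib.FunFld.Approx

/-!
# Functions separating one point of a curve from the rest
-/

set_option autoImplicit false
set_option linter.style.haveILetI false

universe u

open CategoryTheory CategoryTheory.Limits Opposite AlgebraicGeometry TopologicalSpace WithZero IsLocalRing
open GrothLib GrothLib.Ref1 GrothLib.CurveRR
open _root_.FunFld (Place)

noncomputable section

namespace GrothLib.HorizDiv17

variable (k : Type u) [Field k] {X : Scheme.{u}} [IsIntegral X] [IsLocallyNoetherian X] [RegCurve X]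
  [X.Over (Spec (CommRingCat.of k))]

omit [RegCurve X] in
theorem coheight_eq_one {z : X} [IsDiscreteValuationRing (X.presheaf.stalk z)] : Order.coheight z = 1 := by
  have h := ringKrullDim_stalk_eq_coheight z
  rw [IsPrincipalIdealRing.ringKrullDim_eq_one _ (IsDiscreteValuationRing.not_isField _)] at h
  exact (WithBot.coe_injective h).symm

theorem val_place {z : CP X} {f : X.functionField} (hf : f ≠ 0) :
    FunFld.val (place k z) f = exp (-(Scheme.ord f z.1)) := by
  have hz : Order.coheight z.1 = 1 := coheight_eq_one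
  obtain ⟨ϖ, hϖ⟩ := IsDiscreteValuationRing.exists_irreducible (X.presheaf.stalk z.1)
  set π : X.functionField := algebraMap (X.presheaf.stalk z.1) X.functionField ϖ with hπ
  have hπ0 : π ≠ 0 := (isUnit_spR hϖ.ne_zero).ne_zero
  have hunit : ∀ a : X.presheaf.stalk z.1, IsUnit a →
      FunFld.val (place k z) (algebraMap _ X.functionField a) = 1 := fun a ha =>
    le_antisymm (IsDedekindDomain.HeightOneSpectrum.valuation_le_one _ _) (not_lt.1 fun h =>
      (mem_maximalIdeal a).1 ((place_lt_one_iff k).1 h) ha)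
  have hvπ : FunFld.val (place k z) π = exp (-1 : ℤ) := by
    show (IsDiscreteValuationRing.maximalIdeal (X.presheaf.stalk z.1)).valuation X.functionField (algebraMap _ _ ϖ) = _
    rw [IsDedekindDomain.HeightOneSpectrum.valuation_of_algebraMap]
    exact IsDedekindDomain.HeightOneSpectrum.intValuation_singleton _ hϖ.ne_zero hϖ.maximalIdeal_eq
  have hoπ : Scheme.ord π z.1 = 1 := FacDiv.ordg_spR_nonneg hz ϖ |> fun _ =>
    WDivAff.ordg_spR_eq_one hz hϖ.ne_zero hϖ.maximalIdeal_eq
  set m := Scheme.ord f z.1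
  have hg0 : f / π ^ m ≠ 0 := div_ne_zero hf (zpow_ne_zero _ hπ0)
  have hog : Scheme.ord (f / π ^ m) z.1 = 0 := by
    have h := Scheme.ord_mul (x := z.1) hg0 (zpow_ne_zero m hπ0)
    rw [div_mul_cancel₀ _ (zpow_ne_zero m hπ0), WDivAff.ord_zpow' hπ0, hoπ] at h
    linarith
  obtain ⟨a, ha, hau⟩ := exists_regular hz hg0 hog.ge
  have e : f = algebraMap (X.presheaf.stalk z.1) X.functionField a * π ^ m := by
    rw [show algebraMap (X.presheaf.stalk z.1) X.functionField a = f / π ^ m from ha,
      div_mul_cancel₀ _ (zpow_ne_zero m hπ0)]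
  rw [e, map_mul, hunit a (hau hog), one_mul, map_zpow₀, hvπ, ← exp_zsmul]
  simp

variable [IsProper (X ↘ Spec (CommRingCat.of k))]

include k in
theorem exists_approx (S : Finset (CP X)) (hS : S.Nonempty) (m : CP X → ℤ) :
    ∃ f : X.functionField, f ≠ 0 ∧ ∀ z ∈ S, Scheme.ord f z.1 = m z := by
  classical
  let N : Place k X.functionField → ℤ := fun P => if h : ∃ z ∈ S, place k z = P then -m h.choose else 0
  obtain ⟨f, hf⟩ := FunFld.exists_approx_eq (S.image (place k)) (fun _ => (0 : X.functionField)) N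
  have hval : ∀ z ∈ S, FunFld.val (place k z) f = exp (-m z) := fun z hz => by
    have h := hf _ (Finset.mem_image_of_mem _ hz)
    rw [sub_zero] at h
    rw [h]
    have hex : ∃ z' ∈ S, place k z' = place k z := ⟨z, hz, rfl⟩
    simp only [N, dif_pos hex]
    rw [place_injective hex.choose_spec.2]
  obtain ⟨z₀, hz₀⟩ := hS
  have hf0 : f ≠ 0 := fun e => exp_ne_zero (by rw [← hval z₀ hz₀, e, map_zero])
  refine ⟨f, hf0, fun z hz => ?_⟩
  have h := val_place k (z := z) hf0
  rw [hval z hz, exp_inj] at h
  omega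

include k in
/-- Two functions whose Gauss order isolates one point. -/
theorem exists_isolating [CompactSpace X] (x : CP X) :
    ∃ u w : X.functionField, u ≠ 0 ∧ w ≠ 0 ∧ ∀ z : CP X, z = x ∧
        min (Scheme.ord u z.1) (Scheme.ord w z.1) - min 0 (Scheme.ord w z.1) = 1 ∨
      z ≠ x ∧ min (Scheme.ord u z.1) (Scheme.ord w z.1) - min 0 (Scheme.ord w z.1) = 0 := by
  classical
  obtain ⟨u, hu0, hux⟩ := exists_approx k {x} (Finset.singleton_nonempty x) fun _ => 1
  have hfin : {z : CP X | Scheme.ord u z.1 ≠ 0}.Finite := by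
    refine ((WDivAff.finite_ord_support hu0).preimage Subtype.val_injective.injOn).subset fun z hz => ⟨?_, hz⟩
    exact coheight_eq_one
  obtain ⟨w, hw0, hw⟩ := exists_approx k (insert x hfin.toFinset) (Finset.insert_nonempty _ _)
    fun z => if z = x then 1 else min (Scheme.ord u z.1) 0
  refine ⟨u, w, hu0, hw0, fun z => ?_⟩
  by_cases hzx : z = x
  · subst hzx
    refine Or.inl ⟨rfl, ?_⟩
    rw [hux z (Finset.mem_singleton_self z), hw z (Finset.mem_insert_self _ _), if_pos rfl]
    rfl
  · refine Or.inr ⟨hzx, ?_⟩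
    by_cases hz : Scheme.ord u z.1 = 0
    · rw [hz]; omega
    · rw [hw z (Finset.mem_insert_of_mem (hfin.mem_toFinset.2 hz)), if_neg hzx]
      omega

end GrothLib.HorizDiv17
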