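import Groth.Agent.Lib.WDivAff.Main

/-!
# Orders along the vertical divisors of a sum `a + T b`
-/

set_option autoImplicit false
set_option backward.isDefEq.respectTransparency false
set_option backward.isDefEq.respectTransparency.types false
set_option linter.style.haveILetI false

universe u

open CategoryTheory CategoryTheory.Limits Opposite AlgebraicGeometry TopologicalSpace
open GrothLib GrothLib.Ref1 GrothLib.FacDiv GrothLib.PicAff26 GrothLib.WDivAff

noncomputable section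

namespace GrothLib.HorizDiv17

section Dvr

variable {X : Scheme.{u}} [IsIntegral X] [IsLocallyNoetherian X] {x : X}

theorem exists_ord_eq (hx : Order.coheight x = 1) [IsDiscreteValuationRing (X.presheaf.stalk x)] (m : ℤ) :
    ∃ c : X.functionField, c ≠ 0 ∧ Scheme.ord c x = m := by
  obtain ⟨ϖ, hϖ⟩ := IsDiscreteValuationRing.exists_irreducible (X.presheaf.stalk x)
  have h0 : (spR (hη x) ϖ : X.functionField) ≠ 0 := (isUnit_spR hϖ.ne_zero).ne_zero
  refine ⟨(spR (hη x) ϖ : X.functionField) ^ m, zpow_ne_zero _ h0, ?_⟩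
  rw [ord_zpow' h0]
  have h1 : Scheme.ord (spR (hη x) ϖ : X.functionField) x = 1 := ordg_spR_eq_one hx hϖ.ne_zero hϖ.maximalIdeal_eq
  rw [h1, mul_one]

theorem exists_regular (hx : Order.coheight x = 1) [IsDiscreteValuationRing (X.presheaf.stalk x)]
    {c : X.functionField} (hc : c ≠ 0) (h : 0 ≤ Scheme.ord c x) :
    ∃ a : X.presheaf.stalk x, (spR (hη x) a : X.functionField) = c ∧ (Scheme.ord c x = 0 → IsUnit a) := by
  obtain ⟨ϖ, hϖ⟩ := IsDiscreteValuationRing.exists_irreducible (X.presheaf.stalk x)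
  have h0 : (spR (hη x) ϖ : X.functionField) ≠ 0 := (isUnit_spR hϖ.ne_zero).ne_zero
  have h1 : Scheme.ord (spR (hη x) ϖ : X.functionField) x = 1 := ordg_spR_eq_one hx hϖ.ne_zero hϖ.maximalIdeal_eq
  have hdec : ∀ a : X.presheaf.stalk x, a ≠ 0 → ∃ (k : ℕ) (u : X.presheaf.stalk x), IsUnit u ∧ a = u * ϖ ^ k ∧
      Scheme.ord (spR (hη x) a : X.functionField) x = k := by
    intro a ha
    obtain ⟨k, hk⟩ := IsDiscreteValuationRing.associated_pow_irreducible ha hϖ
    obtain ⟨w, hw⟩ := hk.symm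
    refine ⟨k, w, w.isUnit, by rw [mul_comm]; exact hw.symm, ?_⟩
    rw [← hw, map_mul, map_pow]
    show FacDiv.ordg _ x = _
    rw [FacDiv.ordg_mul (pow_ne_zero _ h0) (isUnit_spR w.isUnit.ne_zero).ne_zero, FacDiv.ordg_pow h0]
    show k * Scheme.ord (spR (hη x) ϖ : X.functionField) x + Scheme.ord _ x = _
    rw [h1, ord_spR_of_isUnit w.isUnit, mul_one, add_zero]
  obtain ⟨a, b, hb, hab⟩ := exists_spR_div x c
  have ha : a ≠ 0 := by
    rintro rfl
    rw [map_zero, mul_eq_zero] at hab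
    exact hc (hab.resolve_left (isUnit_spR hb).ne_zero)
  obtain ⟨p, u', hu, rfl, hp⟩ := hdec a ha
  obtain ⟨q, w, hw, rfl, hq⟩ := hdec b hb
  have ho := congrArg (fun t => Scheme.ord (t : X.functionField) x) hab
  rw [Scheme.ord_mul (isUnit_spR hb).ne_zero hc, hp, hq] at ho
  obtain ⟨d, rfl⟩ := Nat.exists_eq_add_of_le (show q ≤ p by omega)
  obtain ⟨w', hw'⟩ := hw.exists_left_inv
  refine ⟨w' * u' * ϖ ^ d, (isUnit_spR hb).mul_left_cancel ?_, fun hz => ?_⟩
  · refine Eq.trans ?_ hab.symm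
    rw [← map_mul]
    refine congrArg _ ?_
    rw [pow_add]
    linear_combination (u' * ϖ ^ q * ϖ ^ d) * hw'
  · obtain rfl : d = 0 := by omega
    rw [pow_zero, mul_one]
    exact (IsUnit.of_mul_eq_one _ hw').mul hu

end Dvr

variable {X : Scheme.{u}}

/-- The coordinate of the line. -/
def coordT (X : Scheme.{u}) [IsIntegral 𝔸(PUnit.{u + 1}; X)] : (𝔸(PUnit.{u + 1}; X)).functionField :=
  ((𝔸(PUnit.{u + 1}; X)).presheaf.germ ⊤ (genericPoint _) trivial).hom (AffineSpace.coord X PUnit.unit)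

theorem coordEquiv_coord {n : Type u} [Finite n] {B : X.Opens} (hB : IsAffineOpen B) (i : n) :
    coordEquiv (n := n) hB (((𝔸(n; X)).presheaf.map (homOfLE (le_top : tOpen n B ≤ ⊤)).op).hom (AffineSpace.coord X i)) =
      MvPolynomial.X i := by
  show (Scheme.ΓSpecIso (CommRingCat.of (MvPolynomial n Γ(X, B)))).hom.hom
    (((chartMap (n := n) hB).appLE (tOpen n B) ⊤ _).hom
      (((𝔸(n; X)).presheaf.map (homOfLE (le_top : tOpen n B ≤ ⊤)).op).hom (AffineSpace.coord X i))) = _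
  rw [← CommRingCat.comp_apply ((𝔸(n; X)).presheaf.map _), Scheme.Hom.map_appLE]
  have e : (chartMap (n := n) hB).appLE ⊤ ⊤ le_rfl = (chartMap (n := n) hB).appTop := by
    simp [Scheme.Hom.appLE]
  rw [e, chartMap]
  show (Scheme.ΓSpecIso (CommRingCat.of (MvPolynomial n Γ(X, B)))).hom.hom
    ((AffineSpace.SpecIso n Γ(X, B)).inv.appTop.hom ((AffineSpace.map n hB.fromSpec).appTop.hom (AffineSpace.coord X i))) = _
  rw [AffineSpace.map_appTop_coord, AffineSpace.SpecIso_inv_appTop_coord, ← CommRingCat.comp_apply, Iso.inv_hom_id]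
  rfl

variable [IsIntegral X] [IsLocallyNoetherian X] [IsIntegral 𝔸(PUnit.{u + 1}; X)]
  [IsLocallyNoetherian 𝔸(PUnit.{u + 1}; X)]

theorem coordT_eq_kP {B : X.Opens} (hB : IsAffineOpen B) [Nonempty (tOpen PUnit.{u + 1} B)] :
    coordT X = kP hB (MvPolynomial.X PUnit.unit) := by
  show _ = ((𝔸(PUnit.{u + 1}; X)).germToFunctionField (tOpen PUnit.{u + 1} B)).hom
    ((coordEquiv hB).symm (MvPolynomial.X PUnit.unit))
  rw [← coordEquiv_coord hB PUnit.unit, RingEquiv.symm_apply_apply]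
  exact ((𝔸(PUnit.{u + 1}; X)).presheaf.germ_res_apply _ _ _ _).symm

/-- The pullback of rational functions to the line. -/
abbrev up (f : X.functionField) : (𝔸(PUnit.{u + 1}; X)).functionField := (phi PUnit.{u + 1} X).hom f

theorem up_ne_zero {f : X.functionField} (hf : f ≠ 0) : up f ≠ 0 :=
  (map_ne_zero_iff _ (pullK_injective _ _)).2 hf

variable (hR1 : ∀ x : X, Order.coheight x = 1 → IsDiscreteValuationRing (X.presheaf.stalk x))
  {y : 𝔸(PUnit.{u + 1}; X)} (hy1 : Order.coheight y = 1)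
  (hne : (𝔸(PUnit.{u + 1}; X) ↘ X) y ≠ genericPoint X)

include hR1 hy1 hne in
/-- The Gauss valuation. -/
theorem ord_add_coordT {a b : X.functionField} {m : ℤ} (hx : Order.coheight ((𝔸(PUnit.{u + 1}; X) ↘ X) y) = 1)
    (ha : a ≠ 0) (hb : b ≠ 0)
    (hm : m = min (Scheme.ord a ((𝔸(PUnit.{u + 1}; X) ↘ X) y)) (Scheme.ord b ((𝔸(PUnit.{u + 1}; X) ↘ X) y))) :
    up a + coordT X * up b ≠ 0 ∧ Scheme.ord (up a + coordT X * up b) y = m := by
  set x := (𝔸(PUnit.{u + 1}; X) ↘ X) y with hxdef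
  haveI := hR1 x hx
  obtain ⟨c, hc, hcm⟩ := exists_ord_eq hx m
  have ha' : a / c ≠ 0 := div_ne_zero ha hc
  have hb' : b / c ≠ 0 := div_ne_zero hb hc
  have hoa : Scheme.ord (a / c) x = Scheme.ord a x - m := by
    have := Scheme.ord_mul (x := x) ha' hc
    rw [div_mul_cancel₀ a hc] at this
    omega
  have hob : Scheme.ord (b / c) x = Scheme.ord b x - m := by
    have := Scheme.ord_mul (x := x) hb' hc
    rw [div_mul_cancel₀ b hc] at this
    omega
  obtain ⟨a₀, ha₀, hau⟩ := exists_regular hx ha' (by omega)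
  obtain ⟨b₀, hb₀, hbu⟩ := exists_regular hx hb' (by omega)
  obtain ⟨B, hB, hyB, -⟩ := exists_isAffineOpen_mem_and_subset (Opens.mem_top x)
  have hy : y ∈ tOpen PUnit.{u + 1} B := hyB
  haveI : Nonempty B := ⟨⟨_, hyB⟩⟩
  haveI : Nonempty (tOpen PUnit.{u + 1} B) := ⟨⟨_, hy⟩⟩
  letI := X.presheaf.algebra_section_stalk (⟨x, hyB⟩ : B)
  haveI := hB.isLocalization_stalk ⟨x, hyB⟩
  obtain ⟨⟨α₁, σ₁⟩, hα⟩ := IsLocalization.surj (hB.primeIdealOf ⟨x, hyB⟩).asIdeal.primeCompl a₀
  obtain ⟨⟨β₁, σ₂⟩, hβ⟩ := IsLocalization.surj (hB.primeIdealOf ⟨x, hyB⟩).asIdeal.primeCompl b₀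
  set α := α₁ * (σ₂ : Γ(X, B))
  set β := β₁ * (σ₁ : Γ(X, B))
  set σ := (σ₁ : Γ(X, B)) * (σ₂ : Γ(X, B))
  have hσ : σ ∉ (hB.primeIdealOf ⟨x, hyB⟩).asIdeal := (σ₁ * σ₂).2
  let g : Γ(X, B) → X.functionField := fun r => X.germToFunctionField B r
  have hg : ∀ r, (spR (hη x) (algebraMap Γ(X, B) (X.presheaf.stalk x) r) : X.functionField) = g r := fun r =>
    X.algebraMap_germ_eq_germToFunctionField hyB r
  have hga : g σ * (a / c) = g α := by
    rw [← ha₀, ← hg, ← hg, ← map_mul]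
    refine congrArg _ ?_
    rw [map_mul, map_mul, ← hα]
    ring
  have hgb : g σ * (b / c) = g β := by
    rw [← hb₀, ← hg, ← hg, ← map_mul]
    refine congrArg _ ?_
    rw [map_mul, map_mul, ← hβ]
    ring
  have hnot : MvPolynomial.C α + MvPolynomial.X PUnit.unit * MvPolynomial.C β ∉ primeOf hB hy := by
    rw [(vert hy1 hne hB hy).2, MvPolynomial.mem_map_C_iff]
    intro h
    have h0 : α ∈ (hB.primeIdealOf ⟨x, hyB⟩).asIdeal := by
      simpa [MvPolynomial.coeff_X_mul'] using h 0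
    have h1 : β ∈ (hB.primeIdealOf ⟨x, hyB⟩).asIdeal := by
      have h1 := h (Finsupp.single PUnit.unit 1)
      simpa [MvPolynomial.coeff_X_mul', MvPolynomial.coeff_C, Finsupp.support_single_ne_zero _ one_ne_zero, (Finsupp.single_ne_zero.2 (one_ne_zero (α := ℕ))).symm] using h1
    rcases min_choice (Scheme.ord a x) (Scheme.ord b x) with e | e
    · have hu := ((hau (by omega)).mul ((IsLocalization.map_units (X.presheaf.stalk x) σ₁))).mul
        (IsLocalization.map_units (X.presheaf.stalk x) σ₂)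
      rw [hα, ← map_mul] at hu
      exact (IsLocalization.AtPrime.isUnit_to_map_iff (X.presheaf.stalk x) _ α).1 hu h0
    · have hu := ((hbu (by omega)).mul ((IsLocalization.map_units (X.presheaf.stalk x) σ₂))).mul
        (IsLocalization.map_units (X.presheaf.stalk x) σ₁)
      rw [hβ, ← map_mul] at hu
      exact (IsLocalization.AtPrime.isUnit_to_map_iff (X.presheaf.stalk x) _ β).1 hu h1
  have hσ0 : g σ ≠ 0 := fun e => by
    have : σ = 0 := Scheme.germToFunctionField_injective X B (by rw [map_zero]; exact e)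
    exact hσ (this ▸ Ideal.zero_mem _)
  have hsum : up (g σ / c) * (up a + coordT X * up b) =
      kP hB (MvPolynomial.C α + MvPolynomial.X PUnit.unit * MvPolynomial.C β) := by
    rw [map_add, map_mul (kP hB) (MvPolynomial.X PUnit.unit), ← coordT_eq_kP hB, ← phi_kP hB, ← phi_kP hB]
    show up (g σ / c) * _ = up (g α) + coordT X * up (g β)
    rw [← hga, ← hgb, mul_add]
    simp only [up, map_mul, map_div₀]
    ring
  have hk : kP hB (MvPolynomial.C α + MvPolynomial.X PUnit.unit * MvPolynomial.C β) ≠ 0 :=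
    (map_ne_zero_iff _ (kP_injective hB)).2 fun e => hnot (by rw [e]; exact Ideal.zero_mem _)
  have hsum0 : up a + coordT X * up b ≠ 0 := fun e => hk (by rw [← hsum, e, mul_zero])
  refine ⟨hsum0, ?_⟩
  have ho : Scheme.ord (up (g σ / c) * (up a + coordT X * up b)) y = _ := congrArg (fun t => Scheme.ord t y) hsum
  rw [Scheme.ord_mul (up_ne_zero (div_ne_zero hσ0 hc)) hsum0, ord_kP_of_not_mem hB hy hnot,
    ord_phi_vert hR1 hy1 hne] at ho
  have hos : Scheme.ord (g σ / c) x = -m := by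
    have h2 := Scheme.ord_mul (x := x) (div_ne_zero hσ0 hc) hc
    rw [div_mul_cancel₀ _ hc, hcm] at h2
    have h3 : Scheme.ord (g σ) x = 0 := by
      rw [← hg]
      exact ord_spR_of_isUnit ((IsLocalization.AtPrime.isUnit_to_map_iff (X.presheaf.stalk x) _ σ).2 hσ)
    omega
  rw [← hxdef] at ho
  omega

end GrothLib.HorizDiv17
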