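import Groth.Agent.Lib.HorizDiv17.Curve
import Groth.Agent.Lib.ClProd17.Basic
import Groth.Agent.Lib.C1.Ops
import Groth.Agent.Lib.TransRZ17.Basic

/-!
# Divisors on the product of a curve with the line are equivalent to horizontal ones
-/

set_option autoImplicit false
set_option backward.isDefEq.respectTransparency false
set_option backward.isDefEq.respectTransparency.types false
set_option linter.style.haveILetI false

universe u

open CategoryTheory CategoryTheory.Limits Opposite AlgebraicGeometry TopologicalSpace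
open GrothLib GrothLib.Ref1 GrothLib.PicAff26 GrothLib.WDivAff GrothLib.CurveRR

noncomputable section

namespace GrothLib.HorizDiv17

variable {X : Scheme.{u}} [IsIntegral X] [IsLocallyNoetherian X] [RegCurve X]
  [IsIntegral 𝔸(PUnit.{u + 1}; X)] [IsLocallyNoetherian 𝔸(PUnit.{u + 1}; X)]

theorem isClosed_or_coheight {y : 𝔸(PUnit.{u + 1}; X)} (hne : (𝔸(PUnit.{u + 1}; X) ↘ X) y ≠ genericPoint X) :
    IsClosed ({y} : Set ↥𝔸(PUnit.{u + 1}; X)) ∨ Order.coheight y = 1 := by
  set x := (𝔸(PUnit.{u + 1}; X) ↘ X) y with hxdef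
  haveI := RegCurve.dvr x hne
  have hR1 : ∀ x' : X, Order.coheight x' = 1 → IsDiscreteValuationRing (X.presheaf.stalk x') := fun x' hx' =>
    RegCurve.dvr x' fun e => by rw [e, WDivAff.coheight_genericPoint] at hx'; exact zero_ne_one hx'
  obtain ⟨y₀, hy₀, hy₀x⟩ := exists_vert (n := PUnit.{u + 1}) hR1 (coheight_eq_one (z := x))
  by_cases hyy : y = y₀
  · exact Or.inr (hyy ▸ hy₀)
  refine Or.inl ?_
  have hxc : IsClosed ({x} : Set X) := CurvePoints.isClosed_singleton (RegCurve.dim (X := X)).le hne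
  obtain ⟨B, hB, hxB, -⟩ := exists_isAffineOpen_mem_and_subset (Opens.mem_top x)
  have hy : y ∈ tOpen PUnit.{u + 1} B := hxB
  have hy₀B : y₀ ∈ tOpen PUnit.{u + 1} B := show (𝔸(PUnit.{u + 1}; X) ↘ X) y₀ ∈ B from hy₀x ▸ hxB
  set q := (hB.primeIdealOf ⟨x, hxB⟩).asIdeal with hq
  haveI hqm : q.IsMaximal := by
    have hc : IsClosed ({hB.primeIdealOf ⟨x, hxB⟩} : Set (PrimeSpectrum Γ(X, B))) := by
      have : ({hB.primeIdealOf ⟨x, hxB⟩} : Set (PrimeSpectrum Γ(X, B))) = hB.fromSpec ⁻¹' {x} := by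
        ext p
        constructor
        · rintro rfl; exact hB.fromSpec_primeIdealOf ⟨x, hxB⟩
        · intro hp
          exact hB.fromSpec.isOpenEmbedding.injective (hp.trans (hB.fromSpec_primeIdealOf ⟨x, hxB⟩).symm)
      rw [this]
      exact hxc.preimage hB.fromSpec.continuous
    exact (PrimeSpectrum.isClosed_singleton_iff_isMaximal _).1 hc
  have hQ₀ : primeOf hB hy₀B = q.map MvPolynomial.C := by
    rw [(vert hy₀ (by rw [hy₀x]; exact hne) hB hy₀B).2]
    congr 3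
    exact Subtype.ext hy₀x
  set Q := primeOf hB hy
  have hle : q.map MvPolynomial.C ≤ Q := Ideal.map_le_iff_le_comap.2 (comap_primeOf hB hy).ge
  have hne' : q.map MvPolynomial.C ≠ Q := fun e => hyy (eq_of_primeOf_eq hB hy hy₀B (e.symm.trans hQ₀.symm))
  letI := Ideal.Quotient.field q
  let F : MvPolynomial PUnit.{u + 1} Γ(X, B) →+* Polynomial (Γ(X, B) ⧸ q) :=
    (Polynomial.mapRingHom (Ideal.Quotient.mk q)).comp (MvPolynomial.pUnitAlgEquiv Γ(X, B)).toRingHom
  have hFs : Function.Surjective F :=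
    (Polynomial.map_surjective _ Ideal.Quotient.mk_surjective).comp (MvPolynomial.pUnitAlgEquiv Γ(X, B)).surjective
  have hker : RingHom.ker F = q.map MvPolynomial.C := by
    rw [← RingHom.comap_ker, Polynomial.ker_mapRingHom, Ideal.mk_ker]
    refine le_antisymm (fun a ha => ?_) (Ideal.map_le_iff_le_comap.2 fun r hr => ?_)
    · have h := Ideal.mem_map_of_mem (MvPolynomial.pUnitAlgEquiv Γ(X, B)).symm.toRingHom (Ideal.mem_comap.1 ha)
      rw [Ideal.map_map] at h
      rw [show (MvPolynomial.pUnitAlgEquiv Γ(X, B)).symm.toRingHom.comp Polynomial.C = MvPolynomial.C from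
        RingHom.ext fun r => show (MvPolynomial.pUnitAlgEquiv Γ(X, B)).symm (Polynomial.C r) = MvPolynomial.C r by
          rw [AlgEquiv.symm_apply_eq]; simp] at h
      exact (show (MvPolynomial.pUnitAlgEquiv Γ(X, B)).symm.toRingHom ((MvPolynomial.pUnitAlgEquiv Γ(X, B)).toRingHom a) = a from
        (MvPolynomial.pUnitAlgEquiv Γ(X, B)).symm_apply_apply a) ▸ h
    · rw [Ideal.mem_comap, Ideal.mem_comap]
      show (MvPolynomial.pUnitAlgEquiv Γ(X, B)) (MvPolynomial.C r) ∈ _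
      rw [show (MvPolynomial.pUnitAlgEquiv Γ(X, B)) (MvPolynomial.C r) = Polynomial.C r by simp]
      exact Ideal.mem_map_of_mem _ hr
  haveI hFQ : (Q.map F).IsPrime := Ideal.map_isPrime_of_surjective hFs (hker.trans_le hle)
  have hback : (Q.map F).comap F = Q := by
    rw [Ideal.comap_map_of_surjective F hFs, show Ideal.comap F ⊥ = RingHom.ker F from rfl, hker, sup_eq_left]
    exact hle
  have hFQ0 : Q.map F ≠ ⊥ := fun e => hne' (by
    rw [e, show Ideal.comap F ⊥ = RingHom.ker F from rfl, hker] at hback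
    exact hback)
  haveI : (Q.map F).IsMaximal := IsPrime.to_maximal_ideal hFQ0
  haveI hQm : Q.IsMaximal := hback ▸ Ideal.comap_isMaximal_of_surjective F hFs
  -- closed in the chart and contained in a closed fibre
  have hW := isAffineOpen_tOpen (n := PUnit.{u + 1}) hB
  have hpm : ((isAffineOpen_tOpen hB).primeIdealOf ⟨y, hy⟩).asIdeal.IsMaximal := by
    rw [show ((isAffineOpen_tOpen hB).primeIdealOf ⟨y, hy⟩).asIdeal = Q.comap (coordEquiv hB).toRingHom from
      Ideal.ext fun a => by simp [Q, PicAff26.primeOf, Ideal.mem_comap]]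
    exact Ideal.comap_isMaximal_of_surjective _ (coordEquiv hB).surjective
  refine closure_subset_iff_isClosed.1 fun w hw => ?_
  have hsp : y ⤳ w := specializes_iff_mem_closure.2 hw
  have hwx : (𝔸(PUnit.{u + 1}; X) ↘ X) w = x :=
    hxc.closure_eq.le (specializes_iff_mem_closure.1 (hsp.map (𝔸(PUnit.{u + 1}; X) ↘ X).continuous))
  have hwB : w ∈ tOpen PUnit.{u + 1} B := show (𝔸(PUnit.{u + 1}; X) ↘ X) w ∈ B from hwx ▸ hxB
  have h2 : hW.primeIdealOf ⟨y, hy⟩ ⤳ hW.primeIdealOf ⟨w, hwB⟩ := by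
    rw [← hW.fromSpec.isOpenEmbedding.isInducing.specializes_iff, hW.fromSpec_primeIdealOf, hW.fromSpec_primeIdealOf]
    exact hsp
  rw [← PrimeSpectrum.le_iff_specializes] at h2
  have h3 : hW.primeIdealOf ⟨y, hy⟩ = hW.primeIdealOf ⟨w, hwB⟩ :=
    PrimeSpectrum.ext (hpm.eq_of_le (inferInstance : (hW.primeIdealOf ⟨w, hwB⟩).asIdeal.IsPrime).ne_top h2)
  have h4 := congrArg hW.fromSpec h3
  rw [hW.fromSpec_primeIdealOf, hW.fromSpec_primeIdealOf] at h4
  exact h4.symm

variable (k : Type u) [Field k] [X.Over (Spec (CommRingCat.of k))] [IsProper (X ↘ Spec (CommRingCat.of k))]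
  [CompactSpace X]

include k in
/-- A function whose vertical divisor is one fibre. -/
theorem exists_fibre_fun {x : X} (hx : x ≠ genericPoint X) :
    ∃ G : (𝔸(PUnit.{u + 1}; X)).functionField, G ≠ 0 ∧ ∀ y, Order.coheight y = 1 →
      (𝔸(PUnit.{u + 1}; X) ↘ X) y ≠ genericPoint X →
        ((𝔸(PUnit.{u + 1}; X) ↘ X) y = x → Scheme.ord G y = 1) ∧
        ((𝔸(PUnit.{u + 1}; X) ↘ X) y ≠ x → Scheme.ord G y = 0) := by
  obtain ⟨u, w, hu, hw, huw⟩ := exists_isolating k ⟨x, hx⟩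
  have hR1 : ∀ x' : X, Order.coheight x' = 1 → IsDiscreteValuationRing (X.presheaf.stalk x') := fun x' hx' =>
    RegCurve.dvr x' fun e => by rw [e, WDivAff.coheight_genericPoint] at hx'; exact zero_ne_one hx'
  obtain ⟨y₀, hy₀, hy₀x⟩ := exists_vert (n := PUnit.{u + 1}) hR1
    (haveI := RegCurve.dvr x hx; coheight_eq_one (z := x))
  have key : ∀ y, Order.coheight y = 1 → (hne : (𝔸(PUnit.{u + 1}; X) ↘ X) y ≠ genericPoint X) →
      up u + coordT X * up w ≠ 0 ∧ up 1 + coordT X * up w ≠ 0 ∧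
        Scheme.ord ((up u + coordT X * up w) / (up 1 + coordT X * up w)) y =
          min (Scheme.ord u ((𝔸(PUnit.{u + 1}; X) ↘ X) y)) (Scheme.ord w ((𝔸(PUnit.{u + 1}; X) ↘ X) y)) -
            min 0 (Scheme.ord w ((𝔸(PUnit.{u + 1}; X) ↘ X) y)) := by
    intro y hy hne
    haveI := RegCurve.dvr _ hne
    obtain ⟨h1, h1'⟩ := ord_add_coordT hR1 hy hne coheight_eq_one hu hw rfl
    obtain ⟨h2, h2'⟩ := ord_add_coordT hR1 hy hne coheight_eq_one (one_ne_zero (α := X.functionField)) hw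
      (m := min 0 (Scheme.ord w ((𝔸(PUnit.{u + 1}; X) ↘ X) y))) (by rw [WDivAff.ord_one'])
    refine ⟨h1, h2, ?_⟩
    have h3 := Scheme.ord_mul (x := y) (div_ne_zero h1 h2) h2
    rw [div_mul_cancel₀ _ h2, h1', h2'] at h3
    omega
  obtain ⟨g1, g2, -⟩ := key y₀ hy₀ (hy₀x.trans_ne hx)
  refine ⟨(up u + coordT X * up w) / (up 1 + coordT X * up w), div_ne_zero g1 g2, fun y hy hne => ?_⟩
  obtain ⟨-, -, e⟩ := key y hy hne
  rcases huw ⟨_, hne⟩ with ⟨h1, h2⟩ | ⟨h1, h2⟩
  · exact ⟨fun _ => e.trans h2, fun h => absurd (congrArg Subtype.val h1) h⟩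
  · exact ⟨fun h => absurd (Subtype.ext h) h1, fun _ => e.trans h2⟩

include k in
/-- Every divisor is equivalent to one without vertical components. -/
theorem exists_horizontal {P : Scheme.{u}} [IsIntegral P] {δ : P → ℤ} (hδ : Cyc.IsSetup P δ) [CompactSpace P]
    (e : P ≅ 𝔸(PUnit.{u + 1}; X)) (p : P ⟶ X) (hp : e.hom ≫ (𝔸(PUnit.{u + 1}; X) ↘ X) = p) (c : ℤ)
    (hc : ∀ z : P, IsClosed ({z} : Set P) → δ z + 1 = c) (α : AlgebraicCycle P ℤ) (hα : α ∈ Cyc.Zk P δ c) :
    ∃ β ∈ Cyc.Zk P δ c, Cyc.RatEquiv δ c α β ∧ ∀ z : P, β z ≠ 0 → p z = genericPoint X := by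
  classical
  haveI := hδ.1
  have hpe : ∀ z, p z = (𝔸(PUnit.{u + 1}; X) ↘ X) (e.hom z) := fun z => by rw [← hp]; rfl
  have hvert : ∀ z, δ z = c → p z ≠ genericPoint X → Order.coheight (e.hom z) = 1 := by
    intro z hz hne
    refine (isClosed_or_coheight (by rw [← hpe]; exact hne)).resolve_left fun hcl => ?_
    have hzc : IsClosed ({z} : Set P) := by
      rw [show ({z} : Set P) = e.hom ⁻¹' {e.hom z} from
        Set.ext fun a => ⟨fun h => congrArg e.hom h, fun h => e.hom.isOpenEmbedding.injective h⟩]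
      exact hcl.preimage e.hom.continuous
    have := hc z hzc
    omega
  by_cases hv : ∃ z, α z ≠ 0 ∧ p z ≠ genericPoint X
  swap
  · push Not at hv
    refine ⟨α, hα, ?_, hv⟩
    show Cyc.RatEquivZero δ c (α - α)
    refine C1.RZ.to_ratEquivZero hδ.2.2 ((C1.RZ.zero hδ.2.2 c).congr fun x => ?_)
    simp
  obtain ⟨z₀, hz₀, hz₀v⟩ := hv
  have hco : ∀ z, Order.coheight (e.hom z) = Order.coheight z := fun z => OrdOpen.coheight_eq e.hom z
  have hcη : δ (genericPoint P) - 1 = c := by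
    rw [← ClProd17.delta_of_coheight hδ ((hco z₀).symm.trans (hvert z₀ (by_contra fun h => hz₀ (hα z₀ h)) hz₀v))]
    exact by_contra fun h => hz₀ (hα z₀ h)
  have hfinK := TransRZ17.finite_of_lf_compact (C1.LF.of_cycle α) isCompact_univ
  have hsub : {z | α z ≠ 0 ∧ p z ≠ genericPoint X} ⊆ {y | y ∈ Set.univ ∧ α y ≠ 0} := fun z hz =>
    ⟨Set.mem_univ z, hz.1⟩
  let S : Finset P := (hfinK.subset hsub).toFinset
  have hS : ∀ z, z ∈ S ↔ α z ≠ 0 ∧ p z ≠ genericPoint X := fun z => Set.Finite.mem_toFinset _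
  have hG : ∀ z : P, ∃ G : P.functionField, G ≠ 0 ∧ (z ∈ S → ∀ z', δ z' = c → p z' ≠ genericPoint X →
      Scheme.ord G z' = if z' = z then 1 else 0) := by
    intro z
    by_cases hz : z ∈ S
    swap
    · exact ⟨1, one_ne_zero, fun h => absurd h hz⟩
    obtain ⟨hzα, hzv⟩ := (hS z).1 hz
    have hzc : δ z = c := by_contra fun h => hzα (hα z h)
    obtain ⟨G, hG0, hG⟩ := exists_fibre_fun k (X := X) hzv
    refine ⟨(OrdOpen.res e.hom).hom G, (map_ne_zero_iff _ (OrdOpen.res_bijective e.hom).injective).2 hG0,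
      fun _ z' hz' hzv' => ?_⟩
    have h1 := hvert z' hz' hzv'
    obtain ⟨ha, hb⟩ := hG (e.hom z') h1 (by rw [← hpe]; exact hzv')
    rw [OrdOpen.ord_res e.hom G z']
    split_ifs with heq
    · exact ha (by rw [← hpe, heq])
    · refine hb fun h => heq (e.hom.isOpenEmbedding.injective ?_)
      exact vert_unique h1 (hvert z hzc hzv) (h.trans (hpe z)) (by rw [← hpe]; exact hzv')
  choose G hG0 hG using hG
  let F : P.functionField := ∏ z ∈ S, G z ^ α z
  have hF : F ≠ 0 := Finset.prod_ne_zero_iff.2 fun z _ => zpow_ne_zero _ (hG0 z)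
  let D : AlgebraicCycle P ℤ := C1.toCycle (ClProd17.dv δ F) (C1.lf_divFun hδ.2.2 (ClProd17.residue_ne_zero hF))
  have hD : ∀ z, D z = ClProd17.dv δ F z := fun z => rfl
  refine ⟨α - D, fun z hz => ?_, ?_, fun z hz => by_contra fun hzv => hz ?_⟩
  · show α z - D z = 0
    rw [hα z hz, hD, ClProd17.dv_eq_zero (by rw [hcη]; exact hz), sub_zero]
  · show Cyc.RatEquivZero δ c (α - (α - D))
    rw [sub_sub_cancel, ← hcη]
    exact (ClProd17.rz_iff hδ).2 ⟨F, hF, hD⟩
  · show α z - D z = 0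
    by_cases hzc : δ z = c
    swap
    · rw [hα z hzc, hD, ClProd17.dv_eq_zero (by rw [hcη]; exact hzc), sub_zero]
    rw [hD, ClProd17.dv_eq_ord hδ hF (by rw [hcη]; exact hzc), WDivAff.ord_prod' S _ fun w _ => zpow_ne_zero _ (hG0 w),
      Finset.sum_congr rfl fun w hw => (WDivAff.ord_zpow' (hG0 w) z (α w)).trans (congrArg (α w * ·) (hG w hw z hzc hzv))]
    simp only [mul_ite, mul_one, mul_zero, Finset.sum_ite_eq]
    split_ifs with h
    · exact sub_self _
    · rw [sub_zero]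
      by_contra h0
      exact h ((hS z).2 ⟨h0, hzv⟩)

end GrothLib.HorizDiv17
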